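import Groth.Agent.WeakAssSch.Basic
import Groth.Agent.IdealSh.GenericPts
import Groth.Agent.PullStalk.Exact

/-!
# Weakly associated points of the structure sheaf, short exact sequences, monomorphisms
-/

set_option autoImplicit false
set_option maxHeartbeats 400000

universe u

open CategoryTheory AlgebraicGeometry TopologicalSpace
open Groth.Agent.PullStalk.Sky Groth.Agent.IdealSh.GenericPts

namespace Groth.Agent.WeakAssSch

variable {X : Scheme.{u}}

lemma isQuasicoherent_unit (X : Scheme.{u}) : (Coh.structureModule X).IsQuasicoherent := by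
  refine (QCoh.isQuasicoherent_iff_forall_isAffineOpen _).mpr fun U hU f => ?_
  let := hU.isLocalization_basicOpen f
  let := (X.presheaf.map (homOfLE (X.basicOpen_le f)).op).hom.toAlgebra
  refine ⟨fun s => ?_, fun t ht => ?_⟩
  · obtain ⟨n, t, ht⟩ := IsLocalization.Away.surj f (show Γ(X, X.basicOpen f) from s)
    exact ⟨n, t, ht.symm.trans (mul_comm _ _)⟩
  · obtain ⟨⟨_, n, rfl⟩, hn⟩ :=
      (IsLocalization.map_eq_zero_iff (Submonoid.powers f) Γ(X, X.basicOpen f) t).mp ht
    exact ⟨n, hn⟩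

lemma isWeakAssPoint_unit_iff (x : X) :
    Curv2.IsWeakAssPoint (Coh.structureModule X) x ↔
      IsLocalRing.maximalIdeal (X.presheaf.stalk x) ∈
        FlatCA.weakAss (X.presheaf.stalk x) (X.presheaf.stalk x) := by
  rw [isWeakAssPoint_iff]
  have key : ∀ (U : X.Opens) (hx : x ∈ U) (y : Γ(X, U)),
      (Submodule.span (X.presheaf.stalk x) {germU x hx y}).annihilator =
        (Submodule.span (X.presheaf.stalk x) {X.presheaf.germ U x hx y}).annihilator := by
    intro U hx y
    ext r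
    rw [WeakAss.mem_ann, WeakAss.mem_ann, smul_eq_mul]
    exact smul_germU_eq_zero_iff x hx r y
  constructor
  · rintro ⟨m, hm⟩
    obtain ⟨U, hx, y, rfl⟩ := exists_germM_eq (Coh.structureModule X) x m
    exact ⟨X.presheaf.germ U x hx y, key U hx y ▸ hm⟩
  · rintro ⟨r, hr⟩
    obtain ⟨U, hx, y, rfl⟩ := X.presheaf.exists_germ_eq (x := x) r
    exact ⟨germU x hx y, (key U hx y).symm ▸ hr⟩

lemma isWeakAssPoint_unit_iff_isAssociatedPrime (x : X) :
    Curv2.IsWeakAssPoint (Coh.structureModule X) x ↔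
      IsAssociatedPrime (IsLocalRing.maximalIdeal (X.presheaf.stalk x)) (X.presheaf.stalk x) := by
  rw [isWeakAssPoint_unit_iff, WeakAss.maximalIdeal_mem_weakAss_iff]

lemma isWeakAssPoint_unit_iff_maximal [IsReduced X] (x : X) :
    Curv2.IsWeakAssPoint (Coh.structureModule X) x ↔ ∀ y : X, y ⤳ x → y = x := by
  rw [isWeakAssPoint_unit_iff, WeakAss.weakAss_self_of_isReduced]
  constructor
  · intro h y hy
    have hy' : y ∈ Set.range (X.fromSpecStalk x) := by rwa [Scheme.range_fromSpecStalk]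
    obtain ⟨q, rfl⟩ := hy'
    have hq : IsLocalRing.maximalIdeal (X.presheaf.stalk x) ≤ q.asIdeal :=
      h.2 ⟨q.isPrime, bot_le⟩ (IsLocalRing.le_maximalIdeal q.isPrime.ne_top)
    have : q = IsLocalRing.closedPoint (X.presheaf.stalk x) :=
      PrimeSpectrum.ext (le_antisymm (IsLocalRing.le_maximalIdeal q.isPrime.ne_top) hq)
    rw [this, Scheme.fromSpecStalk_closedPoint]
  · intro h
    refine ⟨⟨inferInstance, bot_le⟩, fun q hq _ a ha => ?_⟩
    exact nilpotent_iff_mem_prime.mp (IdealSh.Regular.isNilpotent_of_maximal x h a ha) q hq.1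

lemma weakAss_shortExact {S : ShortComplex X.Modules} (hS : S.ShortExact) (x : X) :
    (Curv2.IsWeakAssPoint S.X₂ x → Curv2.IsWeakAssPoint S.X₁ x ∨ Curv2.IsWeakAssPoint S.X₃ x) ∧
      (Curv2.IsWeakAssPoint S.X₁ x → Curv2.IsWeakAssPoint S.X₂ x) := by
  obtain ⟨h1, h2, -⟩ := PullStalk.Exact.stalk_exact hS x
  simp only [isWeakAssPoint_iff]
  exact ⟨fun h => WeakAss.weakAss_subset_union h1 h2 h, fun h => WeakAss.weakAss_mono h1 h⟩

lemma mono_of_app_injective {F G : X.Modules} (φ : F ⟶ G)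
    (h : ∀ U : X.Opens, Function.Injective (φ.app U)) : Mono φ := by
  refine ⟨fun {Z} g g' hg => ?_⟩
  apply Scheme.Modules.hom_ext
  intro U
  ext s
  apply h U
  exact congrArg (fun ψ : Z ⟶ G => ψ.app U s) hg

lemma mono_of_germ_injective {F G : X.Modules} [F.IsQuasicoherent] (φ : F ⟶ G)
    (h : ∀ x : X, Curv2.IsWeakAssPoint F x →
      Function.Injective ((TopCat.Presheaf.stalkFunctor AddCommGrpCat.{u} x).map
        (Scheme.Modules.Hom.mapPresheaf φ))) : Mono φ := by
  refine mono_of_app_injective φ fun U => ?_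
  rw [injective_iff_map_eq_zero]
  intro s hs
  refine eq_zero_of_germ_weakAss F s fun x hx hwa => ?_
  refine h x hwa ?_
  erw [TopCat.Presheaf.stalkFunctor_map_germ_apply U x hx φ.mapPresheaf s]
  refine ((congrArg (G.presheaf.germ U x hx) hs).trans (map_zero _)).trans ?_
  exact (map_zero ((TopCat.Presheaf.stalkFunctor AddCommGrpCat.{u} x).map φ.mapPresheaf).hom).symm

/-- The support of a section killed by powers of a prime. -/
lemma exists_basicOpen_germ_eq_zero [IsLocallyNoetherian X] (F : X.Modules) [F.IsQuasicoherent]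
    {x : X} (h : Curv2.IsWeakAssPoint F x) :
    ∃ (W : X.Opens) (hx : x ∈ W) (m : Γ(F, W)), germM F W x hx m ≠ 0 ∧
      ∀ (y : X) (hy : y ∈ W), ¬ x ⤳ y → germM F W y hy m = 0 := by
  classical
  obtain ⟨V, hxV, -⟩ := IdealSh.Comap.exists_affine_le x ⊤ trivial
  have hN : IsNoetherianRing Γ(X, V.1) := IsLocallyNoetherian.component_noetherian V
  obtain ⟨m, hm, hp⟩ := WeakAss.mem_weakAss_iff.mp ((isWeakAssPoint_iff_mem F V.2 x hxV).mp h)
  set p := (V.2.primeIdealOf ⟨x, hxV⟩).asIdeal with hpdef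
  obtain ⟨G, hG⟩ := IsNoetherian.noetherian (R := Γ(X, V.1)) (M := Γ(X, V.1)) p
  choose! s hs n hn using fun f (hf : f ∈ G) => hp f (hG ▸ Submodule.subset_span hf)
  have hpp : p.IsPrime := (V.2.primeIdealOf ⟨x, hxV⟩).isPrime
  set t := ∏ f ∈ G, s f
  have ht : t ∉ p := fun hmem => by
    obtain ⟨f, hf, hf'⟩ := hpp.prod_mem_iff.mp hmem
    exact hs f hf hf'
  refine ⟨V.1, hxV, t • m, fun h0 => ?_, fun y hy hspec => ?_⟩
  · letI := Props.QStalk.moduleSections F hxV
    have := Props.QStalk.isLocalizedModule_germLin F hxV V.2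
    obtain ⟨⟨c, hc⟩, hcm⟩ := (IsLocalizedModule.eq_zero_iff p.primeCompl
      (Props.QStalk.germLin F hxV)).mp h0
    exact hpp.mul_notMem hc ht (hm (c * t) ((mul_smul c t m).trans hcm))
  · by_contra h0
    apply hspec
    have hle : p ≤ (V.2.primeIdealOf ⟨y, hy⟩).asIdeal := by
      rw [← hG, Submodule.span_le]
      intro f hf
      obtain ⟨c, hc⟩ := Finset.dvd_prod_of_mem s (hf : f ∈ G)
      by_contra hfy
      apply h0
      letI := Props.QStalk.moduleSections F hy
      have := Props.QStalk.isLocalizedModule_germLin F hy V.2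
      refine (IsLocalizedModule.eq_zero_iff (V.2.primeIdealOf ⟨y, hy⟩).asIdeal.primeCompl
        (Props.QStalk.germLin F hy)).mpr ⟨⟨f ^ n f, pow_mem (S := _) hfy _⟩, ?_⟩
      change f ^ n f • t • m = 0
      rw [← mul_smul, show f ^ n f * t = c * (s f * f ^ n f) by rw [show t = _ from hc]; ring,
        mul_smul, hn f hf, smul_zero]
    have h2 := ((PrimeSpectrum.le_iff_specializes (V.2.primeIdealOf ⟨x, hxV⟩)
      (V.2.primeIdealOf ⟨y, hy⟩)).mp hle).map V.2.fromSpec.continuous
    rwa [V.2.fromSpec_primeIdealOf, V.2.fromSpec_primeIdealOf] at h2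

end Groth.Agent.WeakAssSch
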