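import Groth.Agent.WeakAss.Basic
import Groth.Agent.Props.QStalk
import Groth.Agent.QCoh.Exact
import Groth.Prelude.Def_CurvBase
import Groth.Prelude.Def_CohB1
import Mathlib.Topology.Sheaves.Stalks

/-!
# Weakly associated points of quasi-coherent modules
-/

set_option autoImplicit false
set_option maxHeartbeats 400000

universe u

open CategoryTheory AlgebraicGeometry TopologicalSpace
open Groth.Agent.PullStalk.Sky Groth.Agent.Props.QStalk

namespace Groth.Agent.WeakAssSch

section Algebra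

variable {R A : Type*} [CommRing R] [CommRing A] [Algebra R A]

lemma mem_weakAss_of_linearEquiv {M N : Type*} [AddCommGroup M] [Module R M] [AddCommGroup N]
    [Module R N] (e : M ≃ₗ[R] N) (p : Ideal R) :
    p ∈ FlatCA.weakAss R M ↔ p ∈ FlatCA.weakAss R N :=
  ⟨fun h => WeakAss.weakAss_mono (f := e.toLinearMap) e.injective h,
    fun h => WeakAss.weakAss_mono (f := e.symm.toLinearMap) e.symm.injective h⟩

/-- Weakly associated primes and localisation at the prime. -/
lemma mem_weakAss_iff_maximalIdeal {M N : Type*} [AddCommGroup M] [Module R M] [AddCommGroup N]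
    [Module R N] [Module A N] [IsScalarTower R A N] (p : Ideal R) [p.IsPrime] [IsLocalRing A]
    [IsLocalization.AtPrime A p] (g : M →ₗ[R] N) [IsLocalizedModule p.primeCompl g] :
    p ∈ FlatCA.weakAss R M ↔ IsLocalRing.maximalIdeal A ∈ FlatCA.weakAss A N := by
  rw [← WeakAss.mem_weakAss_localizedModule_iff p.primeCompl (Set.disjoint_left.mpr fun a ha => ha),
    mem_weakAss_of_linearEquiv (IsLocalizedModule.iso p.primeCompl g),
    ← WeakAss.mem_weakAss_comap_iff p.primeCompl (IsLocalRing.maximalIdeal A),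
    show Ideal.comap (algebraMap R A) (IsLocalRing.maximalIdeal A) = p from
      IsLocalization.AtPrime.under_maximalIdeal A p]

lemma mem_weakAss_iff_eq_zero {M : Type*} [AddCommGroup M] [Module R M] (p : Ideal R)
    (hp : p ∈ FlatCA.weakAss R M) : ∃ m : M, m ≠ 0 ∧ ∀ a : R, a • m = 0 → a ∈ p := by
  obtain ⟨m, hm⟩ := hp
  refine ⟨m, fun h => hm.1.1.ne_top ?_, fun a ha => hm.1.2 (WeakAss.mem_ann.mpr ha)⟩
  rw [Ideal.eq_top_iff_one]
  exact hm.1.2 (WeakAss.mem_ann.mpr (by rw [h, smul_zero]))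

end Algebra

variable {X : Scheme.{u}}

lemma isWeakAssPoint_iff (F : X.Modules) (x : X) :
    Curv2.IsWeakAssPoint F x ↔
      IsLocalRing.maximalIdeal (X.presheaf.stalk x) ∈
        FlatCA.weakAss (X.presheaf.stalk x) (F.presheaf.stalk x) := by
  have e : ∀ m : F.presheaf.stalk x,
      LinearMap.ker (LinearMap.toSpanSingleton (X.presheaf.stalk x) (F.presheaf.stalk x) m) =
        (⊥ : Submodule (X.presheaf.stalk x) (F.presheaf.stalk x)).colon {m} := fun m => by
    ext a; simp [Submodule.mem_colon_singleton]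
  rw [WeakAss.maximalIdeal_mem_weakAss_iff]
  unfold Curv2.IsWeakAssPoint IsAssociatedPrime
  rw [Submodule.isAssociatedPrime_def,
    and_iff_right (inferInstance : (IsLocalRing.maximalIdeal (X.presheaf.stalk x)).IsPrime)]
  exact exists_congr fun m => by rw [e]; exact eq_comm

/-- Mathlib's associated primes are the weakly associated ones, so the two point notions agree. -/
lemma isAssPoint_iff_isWeakAssPoint (F : X.Modules) (x : X) :
    Curv2.IsAssPoint F x ↔ Curv2.IsWeakAssPoint F x := by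
  rw [isWeakAssPoint_iff, WeakAss.maximalIdeal_mem_weakAss_iff]
  rfl

lemma isWeakAssPoint_iff_mem (F : X.Modules) [F.IsQuasicoherent] {V : X.Opens}
    (hV : IsAffineOpen V) (x : X) (hx : x ∈ V) :
    Curv2.IsWeakAssPoint F x ↔
      (hV.primeIdealOf ⟨x, hx⟩).asIdeal ∈ FlatCA.weakAss Γ(X, V) Γ(F, V) := by
  rw [isWeakAssPoint_iff]
  letI := moduleSections F hx
  letI := X.presheaf.algebra_section_stalk ⟨x, hx⟩
  have : IsLocalization.AtPrime (X.presheaf.stalk x) (hV.primeIdealOf ⟨x, hx⟩).asIdeal :=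
    hV.isLocalization_stalk ⟨x, hx⟩
  have : IsScalarTower Γ(X, V) (X.presheaf.stalk x) (F.presheaf.stalk x) :=
    IsScalarTower.of_algebraMap_smul fun _ _ => rfl
  have := isLocalizedModule_germLin F hx hV
  exact (mem_weakAss_iff_maximalIdeal (hV.primeIdealOf ⟨x, hx⟩).asIdeal (germLin F hx)).symm

/-- A point of an affine open for every prime of its ring. -/
lemma exists_point_of_prime {V : X.Opens} (hV : IsAffineOpen V) (p : Ideal Γ(X, V)) [hp : p.IsPrime] :
    ∃ (x : X) (hx : x ∈ V), (hV.primeIdealOf ⟨x, hx⟩).asIdeal = p := by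
  let pt : PrimeSpectrum Γ(X, V) := ⟨p, hp⟩
  have hx : hV.fromSpec pt ∈ V := by
    rw [← SetLike.mem_coe, ← hV.range_fromSpec]; exact ⟨pt, rfl⟩
  refine ⟨_, hx, congrArg PrimeSpectrum.asIdeal (a₂ := pt) ?_⟩
  exact hV.fromSpec.isOpenEmbedding.injective (hV.fromSpec_primeIdealOf ⟨_, hx⟩)

/-- A nonzero section over an affine open has nonzero germ at some weakly associated point. -/
lemma exists_isWeakAssPoint (F : X.Modules) [F.IsQuasicoherent] {V : X.Opens} (hV : IsAffineOpen V)
    {m : Γ(F, V)} (hm : m ≠ 0) :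
    ∃ (x : X) (hx : x ∈ V), germM F V x hx m ≠ 0 ∧ Curv2.IsWeakAssPoint F x := by
  have hne : (Submodule.span Γ(X, V) {m}).annihilator ≠ ⊤ := fun he => hm (by
    simpa using WeakAss.mem_ann.mp (he.symm ▸ Submodule.mem_top :
      (1 : Γ(X, V)) ∈ (Submodule.span Γ(X, V) {m}).annihilator))
  obtain ⟨p, hp⟩ := Ideal.nonempty_minimalPrimes hne
  have := hp.1.1
  obtain ⟨x, hx, rfl⟩ := exists_point_of_prime hV p
  refine ⟨x, hx, fun h0 => ?_, (isWeakAssPoint_iff_mem F hV x hx).mpr ⟨m, hp⟩⟩
  letI := moduleSections F hx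
  have := isLocalizedModule_germLin F hx hV
  obtain ⟨⟨c, hc⟩, hcm⟩ := (IsLocalizedModule.eq_zero_iff
    (hV.primeIdealOf ⟨x, hx⟩).asIdeal.primeCompl (germLin F hx)).mp h0
  exact hc (hp.1.2 (WeakAss.mem_ann.mpr hcm))

lemma section_eq_zero_of_germ (F : X.Modules) {U : X.Opens} (s : Γ(F, U))
    (h : ∀ (x : X) (hx : x ∈ U), germM F U x hx s = 0) : s = 0 :=
  TopCat.Presheaf.section_ext ⟨F.presheaf, F.isSheaf⟩ U s 0 fun x hx =>
    (h x hx).trans (map_zero (F.presheaf.germ U x hx).hom).symm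

/-- Sections are determined by their germs at weakly associated points. -/
lemma eq_zero_of_germ_weakAss (F : X.Modules) [F.IsQuasicoherent] {U : X.Opens} (s : Γ(F, U))
    (h : ∀ (x : X) (hx : x ∈ U), Curv2.IsWeakAssPoint F x → germM F U x hx s = 0) : s = 0 := by
  refine section_eq_zero_of_germ F s fun x hx => ?_
  obtain ⟨_, ⟨V, hV, rfl⟩, hxV, hle : V ≤ U⟩ :=
    X.isBasis_affineOpens.exists_subset_of_mem_open (a := x) hx U.2
  have h0 : F.presheaf.map (homOfLE hle).op s = 0 := by
    by_contra hne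
    obtain ⟨y, hy, hy0, hwa⟩ := exists_isWeakAssPoint F hV hne
    exact hy0 ((F.presheaf.germ_res_apply (homOfLE hle) y hy s).trans (h y (hle hy) hwa))
  rw [germM, ← F.presheaf.germ_res_apply (homOfLE hle) x hxV s, h0, map_zero]

lemma restrict_injective (F : X.Modules) [F.IsQuasicoherent] {U W : X.Opens} (hUW : U ≤ W)
    (hU : ∀ x ∈ W, Curv2.IsWeakAssPoint F x → x ∈ U) :
    Function.Injective (F.presheaf.map (homOfLE hUW).op) := by
  rw [injective_iff_map_eq_zero]
  intro s hs
  refine eq_zero_of_germ_weakAss F s fun x hx hwa => ?_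
  rw [germM, ← F.presheaf.germ_res_apply (homOfLE hUW) x (hU x hx hwa) s, hs, map_zero]

lemma mem_support_of_isWeakAssPoint (F : X.Modules) {x : X} (h : Curv2.IsWeakAssPoint F x) :
    x ∈ CohB1.support F := by
  obtain ⟨m, hm, -⟩ := mem_weakAss_iff_eq_zero _ ((isWeakAssPoint_iff F x).mp h)
  exact fun hs => hm (Subsingleton.elim (h := hs) m 0)

lemma isZero_iff_forall_stalk (F : X.Modules) :
    Limits.IsZero F ↔ ∀ x : X, Subsingleton (F.presheaf.stalk x) := by
  constructor
  · intro h x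
    refine ⟨fun a b => ?_⟩
    have key : ∀ t : F.presheaf.stalk x, t = 0 := by
      intro t
      obtain ⟨U, hx, m, rfl⟩ := exists_germM_eq F x t
      have h2 : (𝟙 F : F ⟶ F).app U m = (0 : F ⟶ F).app U m := by rw [h.eq_of_src (𝟙 F) 0]
      have h3 : m = 0 := h2
      rw [h3]
      exact map_zero (F.presheaf.germ U x hx).hom
    rw [key a, key b]
  · intro h
    rw [Limits.IsZero.iff_id_eq_zero]
    apply Scheme.Modules.hom_ext
    intro U
    ext s
    exact section_eq_zero_of_germ F s fun x _ => @Subsingleton.elim _ (h x) _ _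

lemma isZero_of_forall_not (F : X.Modules) [F.IsQuasicoherent]
    (h : ∀ x : X, ¬ Curv2.IsWeakAssPoint F x) : Limits.IsZero F := by
  rw [isZero_iff_forall_stalk]
  intro x
  refine ⟨fun a b => ?_⟩
  have key : ∀ t : F.presheaf.stalk x, t = 0 := by
    intro t
    obtain ⟨U, hx, m, rfl⟩ := exists_germM_eq F x t
    rw [eq_zero_of_germ_weakAss F m fun y _ hy => absurd hy (h y)]
    exact map_zero (F.presheaf.germ U x hx).hom
  rw [key a, key b]

/-- A point maximal in the support is weakly associated. -/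
lemma isWeakAssPoint_of_maximal (F : X.Modules) [F.IsQuasicoherent] (x : X)
    (hx : x ∈ CohB1.support F) (hmax : ∀ y : X, y ∈ CohB1.support F → y ⤳ x → y = x) :
    Curv2.IsWeakAssPoint F x := by
  have hnt : Nontrivial (F.presheaf.stalk x) := not_subsingleton_iff_nontrivial.mp hx
  obtain ⟨t, ht⟩ := exists_ne (0 : F.presheaf.stalk x)
  obtain ⟨U, hxU, s, rfl⟩ := exists_germM_eq F x t
  obtain ⟨_, ⟨V, hV, rfl⟩, hxV, hle : V ≤ U⟩ :=
    X.isBasis_affineOpens.exists_subset_of_mem_open (a := x) hxU U.2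
  set m := F.presheaf.map (homOfLE hle).op s with hm
  have hgm : germM F V x hxV m ≠ 0 := by rwa [germM, hm, F.presheaf.germ_res_apply]
  rw [isWeakAssPoint_iff_mem F hV x hxV]
  have hann : (Submodule.span Γ(X, V) {m}).annihilator ≤ (hV.primeIdealOf ⟨x, hxV⟩).asIdeal := by
    intro a ha
    by_contra hap
    letI := moduleSections F hxV
    have := isLocalizedModule_germLin F hxV hV
    exact hgm ((IsLocalizedModule.eq_zero_iff (hV.primeIdealOf ⟨x, hxV⟩).asIdeal.primeCompl
      (germLin F hxV)).mpr ⟨⟨a, hap⟩, WeakAss.mem_ann.mp ha⟩)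
  obtain ⟨q, hq, hqle⟩ := Ideal.exists_minimalPrimes_le hann
  have := hq.1.1
  obtain ⟨y, hyV, rfl⟩ := exists_point_of_prime hV q
  have hy : Curv2.IsWeakAssPoint F y := (isWeakAssPoint_iff_mem F hV y hyV).mpr ⟨m, hq⟩
  have hspec : y ⤳ x := by
    have := (PrimeSpectrum.le_iff_specializes (hV.primeIdealOf ⟨y, hyV⟩)
      (hV.primeIdealOf ⟨x, hxV⟩)).mp hqle
    have h2 := this.map hV.fromSpec.continuous
    rwa [hV.fromSpec_primeIdealOf, hV.fromSpec_primeIdealOf] at h2
  obtain rfl := hmax y (mem_support_of_isWeakAssPoint F hy) hspec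
  exact ⟨m, hq⟩

end Groth.Agent.WeakAssSch
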