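import Groth.Agent.WeakAssSch.Unit

/-!
# Regular functions through weakly associated points
-/

set_option autoImplicit false
set_option maxHeartbeats 400000

universe u

open CategoryTheory AlgebraicGeometry TopologicalSpace

namespace Groth.Agent.WeakAssSch

variable {X Y : Scheme.{u}}

/-- A function invertible at all weakly associated points has regular germs. -/
lemma germ_mem_nonZeroDivisors_of_isUnit {U : X.Opens} (a : Γ(X, U))
    (h : ∀ (z : X) (hz : z ∈ U), Curv2.IsWeakAssPoint (Coh.structureModule X) z →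
      IsUnit (X.presheaf.germ U z hz a)) (x : X) (hx : x ∈ U) :
    X.presheaf.germ U x hx a ∈ nonZeroDivisors (X.presheaf.stalk x) := by
  obtain ⟨V, hxV, hle⟩ := IdealSh.Comap.exists_affine_le x U hx
  rw [← X.presheaf.germ_res_apply (homOfLE hle) x hxV a]
  refine IdealSh.Regular.germ_mem_nonZeroDivisors V.2 x hxV ?_
  rw [mem_nonZeroDivisors_iff_right]
  intro y hy
  by_contra hy0
  obtain ⟨z, hzV, hne, hwa⟩ := IdealSh.GenericPts.exists_isWeakAssPoint V.2 hy0
  have h1 := congrArg (X.presheaf.germ V.1 z hzV) hy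
  rw [map_mul, map_zero, TopCat.Presheaf.germ_res_apply] at h1
  exact hne ((h z (hle hzV) hwa).mul_left_eq_zero.mp h1)

lemma app_mem_regular_of_isUnit (f : X ⟶ Y) {U : Y.Opens} (s : Γ(Y, U))
    (h : ∀ z : X, Curv2.IsWeakAssPoint (Coh.structureModule X) z → ∀ hz : f z ∈ U,
      IsUnit (Y.presheaf.germ U (f z) hz s)) (x : X) (hx : x ∈ f ⁻¹ᵁ U) :
    X.presheaf.germ (f ⁻¹ᵁ U) x hx (f.app U s) ∈ nonZeroDivisors (X.presheaf.stalk x) := by
  refine germ_mem_nonZeroDivisors_of_isUnit _ (fun z hz hwa => ?_) x hx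
  rw [← Scheme.Hom.germ_stalkMap_apply f U z hz]
  exact (h z hwa hz).map (f.stalkMap z).hom

/-- A nonzerodivisor is a unit at a weakly associated point. -/
lemma isUnit_of_isAssociatedPrime {R : Type u} [CommRing R] [IsLocalRing R]
    (h : IsAssociatedPrime (IsLocalRing.maximalIdeal R) R) {a : R} (ha : a ∈ nonZeroDivisors R) :
    IsUnit a := by
  by_contra hu
  obtain ⟨m, hm, hp⟩ := WeakAss.mem_weakAss_iff.mp (WeakAss.maximalIdeal_mem_weakAss_iff.mpr h)
  obtain ⟨s, hs, n, hn⟩ := hp a ((IsLocalRing.mem_maximalIdeal a).mpr hu)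
  refine hs (hm s ?_)
  rw [smul_eq_mul, mul_comm s (a ^ n), mul_assoc] at hn
  exact (mem_nonZeroDivisors_iff_left.mp (pow_mem ha n)) _ hn

/-- A nonzerodivisor is a unit at a maximal point. -/
lemma isUnit_of_maximal (x : X) (hx : ∀ y : X, y ⤳ x → y = x) {a : X.presheaf.stalk x}
    (ha : a ∈ nonZeroDivisors (X.presheaf.stalk x)) : IsUnit a := by
  by_contra hu
  obtain ⟨n, hn⟩ := IdealSh.Regular.isNilpotent_of_maximal x hx a
    ((IsLocalRing.mem_maximalIdeal a).mpr hu)
  exact zero_notMem_nonZeroDivisors (hn ▸ pow_mem ha n)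

end Groth.Agent.WeakAssSch
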