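import Groth.Agent.WeakAssSch.Unit
import Groth.Agent.Depth.Local
import Groth.Agent.QCoh.Exact
import Groth.Agent.QCoh.FiniteType
import Groth.Agent.Props.QProj

/-!
# Morphisms which are isomorphisms off depth two
-/

set_option autoImplicit false
set_option maxHeartbeats 400000

universe u

open CategoryTheory CategoryTheory.Limits AlgebraicGeometry TopologicalSpace
open Groth.Agent.PullStalk.Exact RingTheory.Sequence

namespace Groth.Agent.WeakAssSch.DepthTwo

/-- The algebra: if the image of `g` modulo a depth two submodule is killed by the maximal ideal,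
then the maximal ideal is associated. -/
lemma exists_killed {R : Type u} [CommRing R] [IsLocalRing R] [IsNoetherianRing R]
    {F G : Type u} [AddCommGroup F] [Module R F] [Module.Finite R F] [AddCommGroup G] [Module R G]
    (φ : F →ₗ[R] G) (hφ : Function.Injective φ) (hd : (2 : ℕ∞) ≤ LocCoh.depth R F)
    (g : G) (hg : g ∉ LinearMap.range φ)
    (hm : ∀ c ∈ IsLocalRing.maximalIdeal R, c • g ∈ LinearMap.range φ) :
    ∃ h : G, h ≠ 0 ∧ ∀ c ∈ IsLocalRing.maximalIdeal R, c • h = 0 := by
  rcases subsingleton_or_nontrivial F with hF | hF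
  · refine ⟨g, fun h0 => hg (h0 ▸ zero_mem _), fun c hc => ?_⟩
    obtain ⟨t, ht⟩ := hm c hc
    rw [← ht, Subsingleton.elim t 0, map_zero]
  rw [Depth.depth_eq_idealDepth] at hd
  obtain ⟨rs, hreg, hmem, hlen⟩ := Depth.exists_isWeaklyRegular_of_le_idealDepth
    (Depth.smul_top_ne_top_of_le_maximalIdeal le_rfl) (n := 2) hd
  match rs, hlen with
  | [a, b], _ =>
    rw [isWeaklyRegular_cons_iff, isWeaklyRegular_singleton_iff] at hreg
    have ha : a ∈ IsLocalRing.maximalIdeal R := hmem a (by simp)
    have hb : b ∈ IsLocalRing.maximalIdeal R := hmem b (by simp)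
    choose f hf using hm
    have h1 : b • f a ha = a • f b hb := hφ (by
      rw [map_smul, map_smul, hf, hf, smul_comm])
    obtain ⟨f', hf'⟩ : ∃ f', a • f' = f a ha := by
      have h2 : b • (Submodule.Quotient.mk (f a ha) : QuotSMulTop a F) = b • 0 := by
        rw [smul_zero, ← Submodule.Quotient.mk_smul, h1, Submodule.Quotient.mk_eq_zero]
        exact Submodule.smul_mem_pointwise_smul _ a ⊤ trivial
      have h3 := (Submodule.Quotient.mk_eq_zero _).mp (hreg.2 h2)
      obtain ⟨f', -, hf'⟩ := h3
      exact ⟨f', hf'⟩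
    refine ⟨g - φ f', fun h0 => hg ⟨f', (sub_eq_zero.mp h0).symm⟩, fun c hc => ?_⟩
    have h4 : c • (g - φ f') = φ (f c hc - c • f') := by
      rw [smul_sub, map_sub, hf, map_smul]
    have h5 : a • φ (f c hc - c • f') = 0 := by
      rw [← h4, smul_comm, smul_sub, ← hf a ha, ← hf', map_smul, sub_self, smul_zero]
    rw [h4]
    have h6 : a • (f c hc - c • f') = a • (0 : F) := hφ (by rw [map_smul, h5, smul_zero, map_zero])
    rw [hreg.1 h6, map_zero]

variable {X : Scheme.{u}} [IsLocallyNoetherian X] {F G : X.Modules}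

theorem isIso_of_depth (φ : F ⟶ G) (hF : Coh.IsCoh F) (hG : Coh.IsQCoh G)
    (h : ∀ x : X, Function.Bijective (stalkLin φ x) ∨
      ((2 : ℕ∞) ≤ LocCoh.depth (X.presheaf.stalk x) (F.presheaf.stalk x) ∧
        ¬ Curv2.IsAssPoint G x)) : IsIso φ := by
  have : F.IsQuasicoherent := hF.1
  have : SheafOfModules.IsFiniteType.{u} F := hF.2
  have : G.IsQuasicoherent := hG
  have hNoeth : ∀ x : X, IsNoetherianRing (X.presheaf.stalk x) := fun x => inferInstance
  have hfin : ∀ x : X, Module.Finite (X.presheaf.stalk x) (F.presheaf.stalk x) := fun x => by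
    obtain ⟨V, hxV, -⟩ := IdealSh.Comap.exists_affine_le x ⊤ trivial
    have := QCoh.finite_sections_of_isFiniteType F V.2
    exact Props.QProj.finite_stalk F V.2 hxV
  have hmono : Mono φ := by
    refine mono_of_germ_injective φ fun x hx => ?_
    rcases h x with hb | ⟨hd, -⟩
    · exact hb.1
    · exfalso
      have h1 : IsLocalRing.maximalIdeal (X.presheaf.stalk x) ∈
          associatedPrimes (X.presheaf.stalk x) (F.presheaf.stalk x) :=
        (isAssPoint_iff_isWeakAssPoint F x).mpr hx
      exact Depth.one_le_idealDepth_iff.mp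
        ((Depth.depth_eq_idealDepth (R := X.presheaf.stalk x) (M := F.presheaf.stalk x)) ▸
          le_trans one_le_two hd) _ h1 le_rfl
  let S := ShortComplex.mk φ (cokernel.π φ) (cokernel.condition φ)
  have hS : S.ShortExact :=
    { exact := ShortComplex.exact_of_g_is_cokernel _ (cokernelIsCokernel φ) }
  have : (cokernel φ).IsQuasicoherent := QCoh.isQuasicoherent_cokernel φ
  have hzero : IsZero (cokernel φ) := by
    refine isZero_of_forall_not _ fun x hx => ?_
    obtain ⟨hinj, hexact, hsurj⟩ := stalk_exact hS x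
    obtain ⟨-, m, hm⟩ := isAssociatedPrime_iff.mp ((isAssPoint_iff_isWeakAssPoint _ x).mpr hx)
    have hm0 : m ≠ 0 := by
      rintro rfl
      exact (IsLocalRing.maximalIdeal.isMaximal (X.presheaf.stalk x)).ne_top
        (hm.trans (Ideal.eq_top_iff_one _ |>.mpr (by simp [Submodule.mem_colon_singleton])))
    obtain ⟨g, rfl⟩ := hsurj m
    have hg : g ∉ LinearMap.range (stalkLin φ x) := by
      rintro ⟨t, rfl⟩
      exact hm0 ((hexact _).mpr ⟨t, rfl⟩)
    rcases h x with hb | ⟨hd, hass⟩
    · exact hg (LinearMap.range_eq_top.mpr hb.2 ▸ trivial)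
    have := hfin x
    obtain ⟨h0, hne, hkill⟩ := exists_killed (stalkLin φ x) hinj hd g hg fun c hc => by
      have h2 := Submodule.mem_colon_singleton.mp (hm ▸ hc)
      rw [Submodule.mem_bot, ← map_smul] at h2
      exact LinearMap.mem_range.mpr ((hexact _).mp h2)
    apply hass
    refine isAssociatedPrime_iff.mpr ⟨inferInstance, h0, ?_⟩
    refine (IsLocalRing.maximalIdeal.isMaximal (X.presheaf.stalk x)).eq_of_le (fun htop => hne ?_)
      fun c hc => Submodule.mem_colon_singleton.mpr (hkill c hc)
    have := Submodule.mem_colon_singleton.mp ((Ideal.eq_top_iff_one _).mp htop)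
    rwa [one_smul, Submodule.mem_bot] at this
  have : Epi φ := Preadditive.epi_of_isZero_cokernel φ hzero
  exact isIso_of_mono_of_epi φ

end Groth.Agent.WeakAssSch.DepthTwo
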